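import Cfsg.Agent.Lib.Recog.FiFour.MultBound.Words

set_option autoImplicit false
set_option maxRecDepth 20000
set_option Elab.async false

/-! Small checks for the bound on central extensions of Fi24' (owner: helper6). -/

namespace CfsgLib.Recog.FiFour.MultBound

open CfsgLib.Recog.BitPerm

theorem q_sq : idOK 19 net (gW ++ gW) = true := by decide +kernel

theorem swap_sq : idOK 19 net (signed swapW ++ signed swapW) = true := by decide +kernel

theorem q_swap : idOK 19 net (gW ++ signed swapW ++ gW ++ signed swapW ++ gW ++ signed swapW) = true := by decide +kernel

end CfsgLib.Recog.FiFour.MultBound
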