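import Cfsg.Agent.Lib.Recog.FiFour.MultBound.Words

set_option autoImplicit false
set_option maxRecDepth 20000
set_option Elab.async false

/-! Small checks for the bound on central extensions of Fi24' (owner: helper6). -/

namespace CfsgLib.Recog.FiFour.MultBound

open CfsgLib.Recog.BitPerm

theorem nbrs_closed : closedOK net ((List.range 10).map fun x => signed [x]) nbrs = true := by decide +kernel

theorem nbrs_base : nbrs.testBit 5 = true := by decide +kernel

theorem nbrs_split : Nat.beq (Nat.lor farComm farRest) nbrs = true := by decide +kernel

theorem pair_maps : (pairWords.all fun w => w.all (· < 10) && mapsOK net (signed w) 5 5) = true := by decide +kernel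

theorem far_maps : (farFix.all fun w => w.all (· < 10) && mapsOK net (signed w) 5 5 && mapsOK net (signed w) 148 148) =
    true := by decide +kernel

theorem turn_maps : (farTurn.all (· < 10) && mapsOK net (signed farTurn) 148 148 &&
    mapsOK net (signed farTurn ++ signed farTurn ++ signed farTurn) 5 5) = true := by decide +kernel

theorem point_maps : (mapsOK net gW 0 5 && mapsOK net gW 5 0 && mapsOK net gW 6 148 && mapsOK net (signed [1]) 6 5 &&
    mapsOK net (signed [1]) 5 6 && mapsOK net (signed swapW) 5 9) = true := by decide +kernel

end CfsgLib.Recog.FiFour.MultBound
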