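import Cfsg.Agent.Lib.Recog.FiFour.MultBound.OrbitNear
import Cfsg.Agent.Lib.Recog.FiFour.MultBound.OrbitOut
import Cfsg.Agent.Lib.Recog.FiFour.MultBound.OrbitComm
import Cfsg.Agent.Lib.Recog.FiFour.MultBound.OrbitRest
import Cfsg.Agent.Lib.Recog.FiFour.MultBound.CheckMaps
import Cfsg.Agent.Lib.Recog.FiFour.MultBound.CheckIds

/-! The checks for the bound on central extensions of Fi24' (owner: helper6). -/
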