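import Cfsg.Agent.Lib.Recog.FiFour.Aut.Main
import Cfsg.Agent.Lib.Recog.FiFour.MultBound.Checks
import Cfsg.Agent.Lib.Recog.FiThree.Mult.Main
import Cfsg.Prelude.Def_KGroupFacts
import Mathlib.Tactic.Group

set_option autoImplicit false
set_option maxRecDepth 20000
set_option linter.style.haveILetI false

/-!
Stem extensions of Fi24' have kernels of order dividing 3 (owner: helper6).

The point stabiliser Fi23 lifts uniquely. Lifts of an involution exchanging two commuting transpositions are
normalised against the triangle through a third one; then the union of the double cosets of the lifted stabiliser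
at distance at most two is stable up to one central element of order dividing three.
-/

namespace CfsgLib.Recog.FiFour.MultBound

open Cfsg CfsgLib.Recog.BitPerm CfsgLib.Recog.SporBound
open CfsgLib.Recog.FiFour.Aut (embHom stab_iff exists_emb)
open scoped commutatorElement

attribute [local instance] FiThree.finite_fi23' finite_fi24

theorem or_bit (A B i : ℕ) (h : (Nat.lor A B).testBit i = true) : A.testBit i = true ∨ B.testBit i = true := by
  change (A ||| B).testBit i = true at h
  rwa [Nat.testBit_or, Bool.or_eq_true] at h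

/-- The even subgroup. -/
noncomputable abbrev K : Subgroup Spor.Fi24 := parity.ker

/-- The point of an even element. -/
noncomputable def pK (k : K) : Equiv.Perm ℕ := act (k : Spor.Fi24)

theorem pK_mul (a b : K) : pK (a * b) = pK a * pK b := by rw [pK, Subgroup.coe_mul, map_mul]; rfl

theorem pK_emb (u : Spor.Fi23) (p : ℕ) : pK (embHom u) p = act (iota u) p := rfl

theorem pK_injective : Function.Injective pK := by
  haveI := isSimple_even
  let φ : K →* Equiv.Perm ℕ := act.comp K.subtype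
  refine (MonoidHom.ker_eq_bot_iff φ).1 ((IsSimpleGroup.eq_bot_or_eq_top_of_normal _ φ.normal_ker).resolve_right ?_)
  intro e
  have h0 : (⟨word gW, parity_even (by decide) (by decide)⟩ : K) ∈ φ.ker := e ▸ Subgroup.mem_top _
  have h : act (word gW) = 1 := MonoidHom.mem_ker.1 h0
  have hm := point_maps
  simp only [Bool.and_eq_true] at hm
  have := act_maps hm.1.1.1.1.1
  rw [h] at this
  exact absurd this (show ¬ (0 : ℕ) = 5 by decide)

theorem pK_one (p : ℕ) : pK 1 p = p := by
  rw [pK, OneMemClass.coe_one, map_one]; rfl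

theorem gW_even : word gW ∈ parity.ker := parity_even (by decide) (by decide)

/-- The first involution. -/
noncomputable def qK : K := ⟨word gW, gW_even⟩

/-- The word of the second one, in Fi23. -/
noncomputable def qH : Spor.Fi23 := FiThree.word swapW

/-- The middle element. -/
noncomputable def bH : Spor.Fi23 := FiThree.word [1]

theorem qK_pt : pK qK = wordPerm net gW := act_word gW

theorem emb_word {w : List ℕ} (hw : w.all (· < 10) = true) : pK (embHom (FiThree.word w)) = wordPerm net (signed w) := by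
  show act (iota (FiThree.word w)) = _
  rw [iota_word hw, act_word]

theorem wordPerm_append (u v : List ℕ) : wordPerm net (u ++ v) = wordPerm net u * wordPerm net v := by
  rw [wordPerm, List.map_append, List.prod_append]; rfl

theorem q_inv : qK * qK = 1 := pK_injective (by
  rw [pK_mul, qK_pt, ← wordPerm_append, wordPerm_eq_one netValid q_sq]; exact (map_one act).symm)

theorem qH_inv : qH * qH = 1 := iota_injective (by
  rw [map_mul, map_one, qH, iota_word (by decide)]
  have e : (⟨word (signed swapW) * word (signed swapW), mul_mem (parity_even (by decide) (by decide))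
      (parity_even (by decide) (by decide))⟩ : K) = 1 := pK_injective (by
    refine Equiv.ext fun p => ?_
    rw [pK_one]
    show act (word (signed swapW) * word (signed swapW)) p = p
    rw [← word_append, act_word, wordPerm_eq_one netValid swap_sq]
    rfl)
  exact congrArg Subtype.val e)

theorem q_triangle : (qK * embHom qH) ^ 3 = 1 := pK_injective (by
  have e : (qK * embHom qH) ^ 3 = qK * embHom qH * qK * embHom qH * qK * embHom qH := by
    rw [pow_succ, pow_two]; simp only [mul_assoc]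
  rw [e]
  simp only [pK_mul, qK_pt, qH, emb_word (show swapW.all (· < 10) = true by decide), ← wordPerm_append]
  rw [wordPerm_eq_one netValid q_swap]
  exact (map_one act).symm)

theorem points : pK qK 0 = 5 ∧ pK qK 5 = 0 ∧ pK qK 6 = 148 ∧ act (iota bH) 6 = 5 ∧ act (iota bH) 5 = 6 ∧
    act (iota qH) 5 = 9 := by
  have hm := point_maps
  simp only [Bool.and_eq_true] at hm
  obtain ⟨⟨⟨⟨⟨h1, h2⟩, h3⟩, h4⟩, h5⟩, h6⟩ := hm
  refine ⟨act_maps h1, act_maps h2, act_maps h3, ?_, ?_, ?_⟩
  · rw [bH, iota_word (by decide)]; exact act_maps h4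
  · rw [bH, iota_word (by decide)]; exact act_maps h5
  · rw [qH, iota_word (by decide)]; exact act_maps h6

theorem q_back : pK qK 148 = 6 := by
  have h : pK (qK * qK) 6 = 6 := by rw [q_inv, pK_one]
  rw [pK_mul, Equiv.Perm.mul_apply, points.2.2.1] at h
  exact h

theorem qK_notMem {u : Spor.Fi23} : qK ≠ embHom u := fun e => by
  have h := points.1
  rw [e, pK_emb, Aut.iota_fix] at h
  exact absurd h (by decide)

/-- Fi23 acts on the points. -/
noncomputable def actH : Spor.Fi23 →* Equiv.Perm ℕ := act.comp iota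

theorem orbit_elem {ws : List (List ℕ)} {C : Subgroup Spor.Fi23}
    (hws : ∀ w ∈ ws, w.all (· < 10) = true ∧ FiThree.word w ∈ C) {b r p : ℕ}
    (hp : (orbitSet net (ws.map signed) b r).testBit p = true) : ∃ c ∈ C, act (iota c) b = p := by
  obtain ⟨g, ⟨c, hc, rfl⟩, e⟩ := orbitSet_sub netValid (K := C.map actH) (by
    intro w hw
    obtain ⟨v, hv, rfl⟩ := List.mem_map.1 hw
    refine ⟨FiThree.word v, (hws v hv).2, ?_⟩
    show act (iota _) = _
    rw [iota_word (hws v hv).1, act_word]) r p hp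
  exact ⟨c, hc, e⟩

theorem nbr_bit (u : Spor.Fi23) : nbrs.testBit (act (iota u) 5) = true := by
  have key : ∀ p : ℕ, nbrs.testBit p = true → nbrs.testBit (act (iota u) p) = true := by
    refine gen_induction (p := fun u => ∀ p : ℕ, nbrs.testBit p = true → nbrs.testBit (act (iota u) p) = true)
      (L := List.range 10) ?_ ?_ ?_ u ?_
    · intro p hp; rw [map_one, map_one]; exact hp
    · intro v w hv hw p hp; rw [map_mul, map_mul, Equiv.Perm.mul_apply]; exact hv _ (hw p hp)
    · intro x hx p hp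
      have hx' := List.mem_range.1 hx
      have h := Nat.eq_of_beq_eq_true (List.all_eq_true.1 nbrs_closed (signed [x])
        (List.mem_map.2 ⟨x, hx, rfl⟩))
      have h' := congrArg (fun n : ℕ => n.testBit p) h
      simp only [testBit_runWord netValid, hp] at h'
      rwa [← FiThree.word_singleton, iota_word (by simp [hx']), act_word]
    · rw [show List.range 10 = List.range FiThree.gens.length from rfl, letterSub_range FiThree.nodes]
      exact Subgroup.mem_top u
  exact key 5 nbrs_base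

/-- The stabiliser of 5 in Fi23. -/
noncomputable def cSub : Subgroup Spor.Fi23 where
  carrier := {u | act (iota u) 5 = 5}
  one_mem' := by simp
  mul_mem' {u v} hu hv := by
    show act (iota (u * v)) 5 = 5
    rw [map_mul, map_mul, Equiv.Perm.mul_apply, show act (iota v) 5 = 5 from hv, show act (iota u) 5 = 5 from hu]
  inv_mem' {u} hu := by
    show act (iota u⁻¹) 5 = 5
    rw [map_inv, map_inv, Equiv.Perm.inv_eq_iff_eq]; exact Eq.symm hu

theorem mem_cSub {u : Spor.Fi23} : u ∈ cSub ↔ act (iota u) 5 = 5 := Iff.rfl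

theorem cSub_conj {u : Spor.Fi23} (hu : u ∈ cSub) :
    (FiThree.word FiThree.ga)⁻¹ * u * FiThree.word FiThree.ga ∈ FiThree.hSub := by
  have hd : iota u * Aut.dTwo = Aut.dTwo * iota u := by
    rw [Aut.two_eq]
    refine Aut.comm_conj_iff.2 ?_
    rw [Aut.two_pt]
    exact hu
  have hc : u * FiThree.gg 0 = FiThree.gg 0 * u := iota_injective (by
    rw [map_mul, map_mul, Aut.iota_a]
    have c1 : Commute (iota u) (gg 11) := l_comm_h (iota_mem u)
    exact (c1.mul_right hd).eq)
  rw [← FiThree.centralizer_zz, Subgroup.mem_centralizer_singleton_iff]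
  rw [← FiThree.ga_zz] at hc
  calc (FiThree.word FiThree.ga)⁻¹ * u * FiThree.word FiThree.ga * FiThree.zz
      = (FiThree.word FiThree.ga)⁻¹ * (u * (FiThree.word FiThree.ga * FiThree.zz * (FiThree.word FiThree.ga)⁻¹)) *
        FiThree.word FiThree.ga := by group
    _ = _ := by rw [hc]; group

section Ext

variable {E : Type} [Group E] [Finite E] (σ : E →* K) (hσ : IsStemExtension σ)

include hσ in
theorem central {x : E} (hx : σ x = 1) (y : E) : y * x = x * y :=
  Subgroup.mem_center_iff.1 (hσ.2.1 (MonoidHom.mem_ker.2 hx)) y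

theorem commutator_le_of_gen {M : Subgroup E} (h : ∀ e, ∃ m ∈ M, ∃ z ∈ Subgroup.center E, e = m * z) :
    commutator E ≤ ⁅M, M⁆ := by
  rw [commutator_def, Subgroup.commutator_le]
  intro a _ b _
  obtain ⟨m, hm, z, hz, rfl⟩ := h a
  obtain ⟨m', hm', z', hz', rfl⟩ := h b
  have e : ⁅m * z, m' * z'⁆ = ⁅m, m'⁆ := by
    have cz := Subgroup.mem_center_iff.1 hz
    have cz' := Subgroup.mem_center_iff.1 hz'
    rw [commutatorElement_def, commutatorElement_def, mul_inv_rev, mul_inv_rev]
    calc m * z * (m' * z') * (z⁻¹ * m⁻¹) * (z'⁻¹ * m'⁻¹)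
        = m * (z * (m' * z')) * z⁻¹ * m⁻¹ * z'⁻¹ * m'⁻¹ := by group
      _ = m * ((m' * z') * z) * z⁻¹ * m⁻¹ * z'⁻¹ * m'⁻¹ := by rw [cz]
      _ = m * m' * (z' * m⁻¹) * z'⁻¹ * m'⁻¹ := by group
      _ = m * m' * (m⁻¹ * z') * z'⁻¹ * m'⁻¹ := by rw [cz']
      _ = _ := by group
  rw [e]
  exact Subgroup.commutator_mem_commutator hm hm'

include hσ in
theorem exists_section : ∃ s : Spor.Fi23 →* E, ∀ u, σ (s u) = embHom u := by
  haveI := FiThree.isSimple_fi23
  have hperf : commutator Spor.Fi23 = ⊤ := by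
    rcases IsSimpleGroup.eq_bot_or_eq_top_of_normal (commutator Spor.Fi23) inferInstance with h | h
    · exfalso
      rw [commutator_def] at h
      have hcm : ∀ a b : Spor.Fi23, a * b = b * a := fun a b => commutatorElement_eq_one_iff_mul_comm.1
        (Subgroup.mem_bot.1 (h ▸ Subgroup.commutator_mem_commutator (Subgroup.mem_top a) (Subgroup.mem_top b)))
      obtain ⟨g, hg⟩ := FiThree.nontrivial_fi23
      rw [FiThree.center_eq_one (n := g) fun x _ => hcm _ _] at hg
      exact hg (one_mem _)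
    · exact h
  let Hh : Subgroup E := embHom.range.comap σ
  have hr : ∀ y : Hh, σ (y : E) ∈ embHom.range := fun y => y.2
  let ρ : Hh →* Spor.Fi23 := (MonoidHom.ofInjective Aut.embHom_injective).symm.toMonoidHom.comp
    ((σ.comp Hh.subtype).codRestrict embHom.range hr)
  have hρ : ∀ y : Hh, embHom (ρ y) = σ (y : E) := fun y =>
    congrArg Subtype.val ((MonoidHom.ofInjective Aut.embHom_injective).apply_symm_apply ⟨σ (y : E), hr y⟩)
  have hρs : Function.Surjective ρ := fun u => by
    obtain ⟨e, he⟩ := hσ.1 (embHom u)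
    exact ⟨⟨e, ⟨u, he.symm⟩⟩, Aut.embHom_injective ((hρ _).trans he)⟩
  let ρ' : commutator Hh →* Spor.Fi23 := ρ.comp (commutator Hh).subtype
  have hρ's : Function.Surjective ρ' := fun u => by
    have h1 : u ∈ (commutator Hh).map ρ := by
      rw [commutator_def, Subgroup.map_commutator, Subgroup.map_top_of_surjective _ hρs, ← commutator_def, hperf]
      exact Subgroup.mem_top u
    obtain ⟨y, hy, e⟩ := h1
    exact ⟨⟨y, hy⟩, e⟩
  have hzc : ∀ y : Hh, ρ y = 1 → y ∈ Subgroup.center Hh := fun y hy => Subgroup.mem_center_iff.2 fun x =>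
    Subtype.ext (central σ hσ (by rw [← hρ, hy, map_one]) x)
  have hcl : commutator Hh ≤ ⁅commutator Hh, commutator Hh⁆ := by
    refine commutator_le_of_gen fun e => ?_
    obtain ⟨c, hc⟩ := hρ's (ρ e)
    refine ⟨c, c.2, (c : Hh)⁻¹ * e, hzc _ ?_, by rw [mul_inv_cancel_left]⟩
    rw [map_mul, map_inv, show ρ (c : Hh) = ρ e from hc, inv_mul_cancel]
  have hstem : IsStemExtension ρ' := by
    refine ⟨hρ's, fun y hy => Subgroup.mem_center_iff.2 fun x => Subtype.ext
      (Subgroup.mem_center_iff.1 (hzc _ (MonoidHom.mem_ker.1 hy)) x), fun y _ => ?_⟩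
    have h1 : (y : Hh) ∈ (commutator (commutator Hh)).map (commutator Hh).subtype := by
      rw [commutator_def (G := commutator Hh), Subgroup.map_commutator, ← MonoidHom.range_eq_map, Subgroup.range_subtype]
      exact hcl y.2
    obtain ⟨y', hy', e⟩ := h1
    rwa [← Subtype.ext (e : (y' : Hh) = y)]
  obtain ⟨π, hπ⟩ := FiThree.Mult.multiplier_fi23.2 (commutator Hh) ρ' hstem
  have hinj : Function.Injective ρ' := by
    rw [← MonoidHom.ker_eq_bot_iff, Subgroup.eq_bot_iff_forall]
    intro y hy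
    obtain ⟨a, ha⟩ := hπ ⟨y, hy⟩
    rw [Subsingleton.elim a 1, map_one] at ha
    exact (congrArg Subtype.val ha).symm
  refine ⟨(Hh.subtype.comp (commutator Hh).subtype).comp (MulEquiv.ofBijective ρ' ⟨hinj, hρ's⟩).symm.toMonoidHom,
    fun u => ?_⟩
  show σ (((MulEquiv.ofBijective ρ' ⟨hinj, hρ's⟩).symm u : Hh) : E) = _
  rw [← hρ]
  exact congrArg embHom ((MulEquiv.ofBijective ρ' ⟨hinj, hρ's⟩).apply_symm_apply u)

variable (s : Spor.Fi23 →* E) (hs : ∀ u, σ (s u) = embHom u)

include hs in
theorem sec_eq_one {u : Spor.Fi23} (h : σ (s u) = 1) : u = 1 :=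
  Aut.embHom_injective (by rw [← hs, h, map_one])

include hs in
theorem lift_of_fix {e : E} (h : pK (σ e) 0 = 0) : ∃ u, σ (e * (s u)⁻¹) = 1 := by
  obtain ⟨u, hu⟩ := exists_emb h
  exact ⟨u, by rw [map_mul, map_inv, hs, hu, mul_inv_cancel]⟩

include hσ hs in
theorem exists_swap : ∃ n : E, σ n = qK ∧ n * n = 1 ∧ (n * s qH) ^ 3 = 1 := by
  obtain ⟨t, ht⟩ := hσ.1 (embHom qH * qK)
  have hq3 := q_triangle
  have e3 : (qK * embHom qH) ^ 3 = qK * embHom qH * qK * embHom qH * qK * embHom qH := by
    rw [pow_succ, pow_two]; simp only [mul_assoc]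
  have hσn : σ (t * s qH * t⁻¹) = qK := by
    rw [map_mul, map_mul, map_inv, ht, hs, mul_inv_rev, inv_eq_of_mul_eq_one_right q_inv,
      inv_eq_of_mul_eq_one_right (show embHom qH * embHom qH = 1 by rw [← map_mul, qH_inv, map_one])]
    rw [e3] at hq3
    have h := eq_inv_of_mul_eq_one_left hq3
    calc embHom qH * qK * embHom qH * (qK * embHom qH) = qK * (qK * embHom qH * qK * embHom qH * qK * embHom qH) := by
          rw [← mul_assoc qK (qK * _ * _ * _ * _), ← mul_assoc qK (qK * _ * _ * _), ← mul_assoc qK (qK * _ * _),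
            ← mul_assoc qK (qK * _), ← mul_assoc qK qK, q_inv, one_mul]
          simp only [mul_assoc]
      _ = qK := by rw [← e3, q_triangle, mul_one]
  set n0 := t * s qH * t⁻¹ with hn0
  have hn2 : n0 * n0 = 1 := by
    have hss : s qH * s qH = 1 := by rw [← map_mul, qH_inv, map_one]
    calc n0 * n0 = t * (s qH * s qH) * t⁻¹ := by rw [hn0]; group
      _ = 1 := by rw [hss, mul_one, mul_inv_cancel]
  have hss : s qH * s qH = 1 := by rw [← map_mul, qH_inv, map_one]
  set α := (n0 * s qH) ^ 3 with hα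
  have hα1 : σ α = 1 := by rw [hα, map_pow, map_mul, hσn, hs, q_triangle]
  have hc : ∀ y, y * α = α * y := central σ hσ hα1
  have hαα : α * α = 1 := by
    have h1 : n0 * α * n0 = (s qH * n0) ^ 3 := by
      rw [hα, pow_succ, pow_two, pow_succ, pow_two]
      calc n0 * (n0 * s qH * (n0 * s qH) * (n0 * s qH)) * n0
          = (n0 * n0) * (s qH * n0 * (s qH * n0) * (s qH * n0)) := by simp only [mul_assoc]
        _ = _ := by rw [hn2, one_mul]
    have h2 : n0 * α * n0 = α := by rw [hc, mul_assoc, hn2, mul_one]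
    have h3 : (s qH * n0) = (n0 * s qH)⁻¹ := eq_inv_of_mul_eq_one_left (by
      rw [mul_assoc, ← mul_assoc n0, hn2, one_mul, hss])
    rw [h3, inv_pow, ← hα, h2] at h1
    nth_rw 1 [h1]
    exact inv_mul_cancel α
  refine ⟨n0 * α, by rw [map_mul, hσn, hα1, mul_one], ?_, ?_⟩
  · calc n0 * α * (n0 * α) = n0 * (α * n0) * α := by group
      _ = n0 * n0 * (α * α) := by rw [← hc]; group
      _ = 1 := by rw [hn2, hαα, one_mul]
  · have e : n0 * α * s qH = (n0 * s qH) * α := by rw [mul_assoc n0 α, ← hc (s qH), ← mul_assoc]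
    rw [e, Commute.mul_pow (hc _), ← hα, pow_succ, pow_two, hαα, one_mul, hαα]

variable (n : E) (hn : σ n = qK) (hnn : n * n = 1) (htri : (n * s qH) ^ 3 = 1)

/-- The middle of the far double coset. -/
noncomputable def mid : E := n * s bH * n

/-- The double cosets at distance at most two. -/
def Near (e : E) : Prop :=
  (∃ u, e = s u) ∨ (∃ u v, e = s u * n * s v) ∨ ∃ u v, e = s u * mid s n * s v

theorem near_mul {e : E} (h : Near s n e) (a b : Spor.Fi23) : Near s n (s a * e * s b) := by
  rcases h with ⟨u, rfl⟩ | ⟨u, v, rfl⟩ | ⟨u, v, rfl⟩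
  · exact Or.inl ⟨a * u * b, by rw [map_mul, map_mul]⟩
  · exact Or.inr (Or.inl ⟨a * u, v * b, by rw [map_mul, map_mul]; simp only [mul_assoc]⟩)
  · exact Or.inr (Or.inr ⟨a * u, v * b, by rw [map_mul, map_mul]; simp only [mul_assoc]⟩)

include hσ hs hn hnn in
theorem swap_fix {c : Spor.Fi23} (hc : c ∈ cSub) : ∃ c', s c * n = n * s c' ∧ embHom c' = qK * embHom c * qK := by
  set g := FiThree.word FiThree.ga with hg
  have hmem : ∀ h : FiThree.hSub, g * (h : Spor.Fi23) * g⁻¹ ∈ cSub := by
    intro h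
    show act (iota (g * h * g⁻¹)) 5 = 5
    have h5 : act (iota g) Aut.pOne = 5 := by rw [hg]; exact Aut.g_two
    conv_lhs => rw [← h5]
    rw [← Equiv.Perm.mul_apply, ← map_mul, ← map_mul, inv_mul_cancel_right, map_mul, map_mul, Equiv.Perm.mul_apply,
      Aut.h_fix h.2, h5]
  have hfix : ∀ c ∈ cSub, pK (σ (n * s c * n)) 0 = 0 := by
    intro c hc
    rw [map_mul, map_mul, hn, hs, pK_mul, pK_mul, Equiv.Perm.mul_apply, Equiv.Perm.mul_apply, points.1, pK_emb,
      mem_cSub.1 hc, points.2.1]
  choose θ hθ using fun h : FiThree.hSub => lift_of_fix σ s hs (hfix _ (hmem h))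
  have hθe : ∀ h : FiThree.hSub, embHom (θ h) = qK * embHom (g * h * g⁻¹) * qK := fun h => by
    have := hθ h
    rw [map_mul σ (n * _ * n), map_inv, hs, mul_inv_eq_one, map_mul, map_mul, hn, hs] at this
    exact this.symm
  let f : FiThree.hSub →* σ.ker := MonoidHom.mk'
    (fun h => ⟨n * s (g * h * g⁻¹) * n * (s (θ h))⁻¹, MonoidHom.mem_ker.2 (hθ h)⟩) (by
    intro h k
    refine Subtype.ext ?_
    show n * s (g * ((h : Spor.Fi23) * k) * g⁻¹) * n * (s (θ (h * k)))⁻¹ =
      n * s (g * h * g⁻¹) * n * (s (θ h))⁻¹ * (n * s (g * k * g⁻¹) * n * (s (θ k))⁻¹)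
    have hm : θ (h * k) = θ h * θ k := Aut.embHom_injective (by
      rw [map_mul, hθe, hθe, hθe, Subgroup.coe_mul, show g * ((h : Spor.Fi23) * k) * g⁻¹ = g * h * g⁻¹ * (g * k * g⁻¹) by
        group, map_mul]
      calc qK * (embHom (g * h * g⁻¹) * embHom (g * k * g⁻¹)) * qK
          = qK * embHom (g * h * g⁻¹) * (qK * qK) * embHom (g * k * g⁻¹) * qK := by rw [q_inv]; group
        _ = _ := by group)
    rw [hm, map_mul s (θ h), show g * ((h : Spor.Fi23) * k) * g⁻¹ = g * h * g⁻¹ * (g * k * g⁻¹) by group, map_mul s,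
      mul_inv_rev]
    have hz := central σ hσ (hθ k) (s (θ h))⁻¹
    calc n * (s (g * h * g⁻¹) * s (g * k * g⁻¹)) * n * ((s (θ k))⁻¹ * (s (θ h))⁻¹)
        = n * s (g * h * g⁻¹) * ((n * n) * s (g * k * g⁻¹) * n * (s (θ k))⁻¹ * (s (θ h))⁻¹) := by rw [hnn]; group
      _ = n * s (g * h * g⁻¹) * n * ((n * s (g * k * g⁻¹) * n * (s (θ k))⁻¹) * (s (θ h))⁻¹) := by group
      _ = _ := by rw [← hz]; group)
  have hfa : ∀ x (hx : x ∈ FiThree.hLetters),
      f ⟨FiThree.gg x, FiThree.gg_mem_h hx⟩ = f ⟨FiThree.gg 0, FiThree.gg_mem_h (by decide)⟩ := by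
    intro x hx
    obtain ⟨d, hd, e⟩ := FiThree.gg_conj_in FiThree.hSub (fun y hy => FiThree.gg_mem_h hy) hx
    rw [show (⟨FiThree.gg x, FiThree.gg_mem_h hx⟩ : FiThree.hSub) =
      ⟨d, hd⟩ * ⟨FiThree.gg 0, FiThree.gg_mem_h (by decide)⟩ * (⟨d, hd⟩ : FiThree.hSub)⁻¹ from Subtype.ext e,
      map_mul, map_mul, map_inv]
    have hcc : ∀ a b : σ.ker, a * b = b * a := fun a b => Subtype.ext (central σ hσ (MonoidHom.mem_ker.1 b.2) a)
    rw [hcc (f ⟨d, hd⟩), mul_inv_cancel_right]
  have hf := FiThree.trivial_hom f hfa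
  have hh := cSub_conj hc
  have hcc : g * (g⁻¹ * c * g) * g⁻¹ = c := by group
  refine ⟨θ ⟨_, hh⟩, ?_, by rw [hθe, hcc]⟩
  have := congrArg Subtype.val (hf ⟨_, hh⟩)
  change n * s (g * (g⁻¹ * c * g) * g⁻¹) * n * (s (θ ⟨_, hh⟩))⁻¹ = 1 at this
  rw [hcc, mul_inv_eq_one] at this
  rw [← this, ← mul_assoc, ← mul_assoc, hnn, one_mul]

include hσ hs hn hnn in
theorem cosets_of_pts {u r : Spor.Fi23} {C : Subgroup Spor.Fi23} (h : ∃ c ∈ C, act (iota c) (act (iota r) 5) = act (iota u) 5) :
    ∃ c ∈ C, ∃ c', u = c * r * c' ∧ c' ∈ cSub := by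
  obtain ⟨c, hc, e⟩ := h
  refine ⟨c, hc, r⁻¹ * c⁻¹ * u, by group, ?_⟩
  rw [mem_cSub, map_mul, map_mul, map_mul, map_mul, Equiv.Perm.mul_apply, Equiv.Perm.mul_apply, ← e, map_inv, map_inv,
    map_inv, map_inv, Equiv.Perm.inv_eq_iff_eq, Equiv.Perm.inv_eq_iff_eq]

include hs in
theorem sec_inj {u v : Spor.Fi23} (h : s u = s v) : u = v := Aut.embHom_injective (by rw [← hs, h, hs])

include hσ hs hn hnn htri in
theorem near_swap (u : Spor.Fi23) : Near s n (n * s u * n) := by
  have base : ∀ r, Near s n (n * s r * n) →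
      (∃ c ∈ cSub, act (iota c) (act (iota r) 5) = act (iota u) 5) → Near s n (n * s u * n) := by
    intro r hr h
    obtain ⟨c, hc, c', rfl, hc'⟩ := cosets_of_pts σ hσ s hs n hn hnn h
    obtain ⟨a, ha, -⟩ := swap_fix σ hσ s hs n hn hnn hc
    obtain ⟨b, hb, -⟩ := swap_fix σ hσ s hs n hn hnn hc'
    have ha' : n * s c = s a * n := by
      calc n * s c = n * (s c * n) * n := by simp only [mul_assoc, hnn, mul_one]
        _ = _ := by rw [ha, ← mul_assoc n n, hnn, one_mul]
    rw [map_mul, map_mul, show n * (s c * s r * s c') * n = (n * s c) * s r * (s c' * n) by simp only [mul_assoc], ha',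
      hb, show s a * n * s r * (n * s b) = s a * (n * s r * n) * s b by simp only [mul_assoc]]
    exact near_mul s n hr a b
  have hb := nbr_bit u
  have hP : ∀ w ∈ pairWords, w.all (· < 10) = true ∧ FiThree.word w ∈ cSub := by
    intro w hw
    have h := List.all_eq_true.1 pair_maps w hw
    simp only [Bool.and_eq_true] at h
    exact ⟨h.1, by rw [mem_cSub, iota_word h.1]; exact act_maps h.2⟩
  rw [nbrs] at hb
  replace hb := (or_bit _ _ _ hb).imp_left (or_bit _ _ _)
  rcases hb with (hb | hb) | hb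
  · rw [← Nat.eq_of_beq_eq_true near_orbit] at hb
    refine base qH (Or.inr (Or.inl ⟨qH, qH, ?_⟩)) (by rw [points.2.2.2.2.2]; exact orbit_elem hP hb)
    have e : (n * s qH) ^ 3 = n * s qH * n * (s qH * n * s qH) := by
      rw [pow_succ, pow_two]; simp only [mul_assoc]
    rw [e] at htri
    have hss : s qH * s qH = 1 := by rw [← map_mul, qH_inv, map_one]
    have hi : (s qH * n * s qH)⁻¹ = s qH * n * s qH := inv_eq_of_mul_eq_one_right (by
      rw [show s qH * n * s qH * (s qH * n * s qH) = s qH * n * (s qH * s qH) * n * s qH by simp only [mul_assoc],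
        hss, mul_one, mul_assoc (s qH) n n, hnn, mul_one, hss])
    rw [eq_inv_of_mul_eq_one_left htri, hi]
  · rw [← Nat.eq_of_beq_eq_true out_orbit] at hb
    refine base bH (Or.inr (Or.inr ⟨1, 1, ?_⟩)) (by rw [points.2.2.2.2.1]; exact orbit_elem hP hb)
    rw [map_one, one_mul, mul_one]; rfl
  · refine base 1 (Or.inl ⟨1, by rw [map_one, mul_one, hnn]⟩) ⟨1, one_mem _, ?_⟩
    rw [show Nat.shiftLeft 1 5 = 2 ^ 5 from rfl, Nat.testBit_two_pow, decide_eq_true_eq] at hb
    rw [map_one, map_one, ← hb]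
    rfl

include hσ hs hn hnn in
theorem mid_fix {u : Spor.Fi23} (hu : act (iota u) 5 = 5) (hu' : act (iota u) 148 = 148) :
    ∃ v, mid s n * s u = s v * mid s n := by
  obtain ⟨u1, h1, e1⟩ := swap_fix σ hσ s hs n hn hnn (mem_cSub.2 hu)
  have h1' : n * s u = s u1 * n := by
    calc n * s u = n * (s u * n) * n := by simp only [mul_assoc, hnn, mul_one]
      _ = _ := by rw [h1, ← mul_assoc n n, hnn, one_mul]
  have hfix : bH * u1 * bH⁻¹ ∈ cSub := by
    have hq6 : pK (embHom u1) 6 = 6 := by
      rw [e1, pK_mul, pK_mul, Equiv.Perm.mul_apply, Equiv.Perm.mul_apply, points.2.2.1, pK_emb, hu']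
      exact q_back
    rw [mem_cSub, map_mul, map_mul, map_mul, map_mul, Equiv.Perm.mul_apply, Equiv.Perm.mul_apply, map_inv, map_inv,
      show (act (iota bH))⁻¹ 5 = 6 from Equiv.Perm.inv_eq_iff_eq.2 points.2.2.2.1.symm,
      show act (iota u1) 6 = 6 from hq6, points.2.2.2.1]
  obtain ⟨u2, h2, -⟩ := swap_fix σ hσ s hs n hn hnn hfix
  refine ⟨u2, ?_⟩
  have h2' : n * s (bH * u1 * bH⁻¹) = s u2 * n := by
    calc n * s (bH * u1 * bH⁻¹) = n * (s (bH * u1 * bH⁻¹) * n) * n := by simp only [mul_assoc, hnn, mul_one]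
      _ = _ := by rw [h2, ← mul_assoc n n, hnn, one_mul]
  calc mid s n * s u = n * s bH * (n * s u) := by simp only [mid, mul_assoc]
    _ = n * s bH * (s u1 * n) := by rw [h1']
    _ = n * s (bH * u1 * bH⁻¹) * (s bH * n) := by
      rw [map_mul, map_mul, map_inv]; group
    _ = s u2 * n * (s bH * n) := by rw [h2']
    _ = _ := by simp only [mid, mul_assoc]

theorem turn_mem : act (iota (FiThree.word farTurn)) 148 = 148 ∧
    act (iota (FiThree.word farTurn * FiThree.word farTurn * FiThree.word farTurn)) 5 = 5 := by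
  have h := turn_maps
  simp only [Bool.and_eq_true] at h
  refine ⟨by rw [iota_word h.1.1]; exact act_maps h.1.2, ?_⟩
  rw [map_mul iota, map_mul iota, iota_word h.1.1, ← word_append, ← word_append]
  exact act_maps h.2

include hσ hs hn hnn in
theorem turn_lift : ∃ (v : Spor.Fi23) (z : E), σ z = 1 ∧ z ^ 3 = 1 ∧
    mid s n * s (FiThree.word farTurn) = s v * mid s n * z := by
  obtain ⟨hU, hc⟩ := turn_mem
  set u := FiThree.word farTurn with hu
  have hm0 : pK (σ (mid s n)) 148 = 0 := by
    rw [mid, map_mul, map_mul, hn, hs, pK_mul, pK_mul, Equiv.Perm.mul_apply, Equiv.Perm.mul_apply,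
      q_back, pK_emb, points.2.2.2.1, points.2.1]
  have hmi : pK (σ (mid s n))⁻¹ 0 = 148 := by
    show act ((σ (mid s n) : Spor.Fi24)⁻¹) 0 = 148
    rw [map_inv, Equiv.Perm.inv_eq_iff_eq]
    exact hm0.symm
  obtain ⟨v, hv⟩ := lift_of_fix σ s hs (e := mid s n * s u * (mid s n)⁻¹) (by
    rw [map_mul, map_mul, map_inv, hs, pK_mul, pK_mul, Equiv.Perm.mul_apply, Equiv.Perm.mul_apply, hmi, pK_emb, hU, hm0])
  set z := mid s n * s u * (mid s n)⁻¹ * (s v)⁻¹ with hz
  have hcz := central σ hσ hv
  have e : mid s n * s u = s v * mid s n * z := by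
    rw [mul_assoc (s v), hcz, ← mul_assoc, hcz]
    simp only [hz]; group
  refine ⟨v, z, hv, ?_, e⟩
  have hU3 : act (iota (u * u * u)) 148 = 148 := by
    have key : ∀ a : Spor.Fi23, ∀ p : ℕ, act (iota a) p = p → act (iota (a * a * a)) p = p := fun a p h => by
      rw [map_mul iota, map_mul iota, map_mul act, map_mul act, Equiv.Perm.mul_apply, Equiv.Perm.mul_apply, h, h, h]
    exact key u 148 hU
  obtain ⟨w, hw⟩ := mid_fix σ hσ s hs n hn hnn hc hU3
  have e3 : mid s n * s (u * u * u) = s (v * v * v) * mid s n * (z * z * z) := by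
    rw [map_mul, map_mul, map_mul, map_mul]
    have push : ∀ y w : E, y * z * w = y * w * z := fun y w => by rw [mul_assoc, ← hcz w, ← mul_assoc]
    calc mid s n * (s u * s u * s u) = mid s n * s u * s u * s u := by simp only [mul_assoc]
      _ = s v * mid s n * s u * s u * z := by rw [e, push, push]
      _ = s v * (s v * mid s n * z) * s u * z := by rw [mul_assoc (s v) (mid s n) (s u), e]
      _ = s v * s v * mid s n * z * s u * z := by simp only [mul_assoc]
      _ = s v * s v * (mid s n * s u) * z * z := by rw [push]; simp only [mul_assoc]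
      _ = _ := by rw [e]; simp only [mul_assoc]
  rw [hw] at e3
  have h4 : s ((v * v * v)⁻¹ * w) = z * z * z := by
    have hz3 : ∀ y, y * (z * z * z) = z * z * z * y := fun y => by
      have c : Commute y z := hcz y
      exact ((c.mul_right c).mul_right c).eq
    rw [mul_assoc (s (v * v * v)), hz3, ← mul_assoc] at e3
    rw [map_mul, map_inv, mul_right_cancel e3, inv_mul_cancel_left]
  have h5 : (v * v * v)⁻¹ * w = 1 := sec_eq_one σ s hs (by rw [h4, map_mul, map_mul, hv, one_mul, one_mul])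
  rw [h5, map_one] at h4
  rw [pow_succ, pow_two, ← h4]

include hs hn in
theorem near_pos (u v : Spor.Fi23) : σ (s u * n * s v) ≠ 1 := by
  intro h
  have e : pK (σ (s u * n * s v)) 0 = act (iota u) 5 := by
    rw [map_mul σ, map_mul σ, hs u, hs v, hn, pK_mul, pK_mul, Equiv.Perm.mul_apply, Equiv.Perm.mul_apply, pK_emb,
      pK_emb, Aut.iota_fix, points.1]
  rw [h, pK_one] at e
  exact absurd ((act (iota u)).injective (e.symm.trans (Aut.iota_fix u).symm)) (show ¬ (5 : ℕ) = 0 by decide)

include hs hn in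
theorem far_pos (u v : Spor.Fi23) : σ (s u * mid s n * s v) ≠ 1 := by
  intro h
  have em : pK (σ (mid s n)) 0 = 148 := by
    rw [mid, map_mul σ, map_mul σ, hn, hs, pK_mul, pK_mul, Equiv.Perm.mul_apply, Equiv.Perm.mul_apply, pK_emb,
      points.1, points.2.2.2.2.1, points.2.2.1]
  have e : pK (σ (s u * mid s n * s v)) 0 = act (iota u) 148 := by
    rw [map_mul σ, map_mul σ, hs u, hs v, pK_mul, pK_mul, Equiv.Perm.mul_apply, Equiv.Perm.mul_apply, pK_emb, pK_emb,
      Aut.iota_fix, em]
  rw [h, pK_one] at e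
  exact absurd ((act (iota u)).injective (e.symm.trans (Aut.iota_fix u).symm)) (show ¬ (148 : ℕ) = 0 by decide)

include hσ hs hn hnn htri in
theorem kernel_le : ∃ z : E, σ z = 1 ∧ z ^ 3 = 1 ∧ σ.ker ≤ Subgroup.zpowers z := by
  obtain ⟨v0, z, hz1, hz3, hz⟩ := turn_lift σ hσ s hs n hn hnn
  refine ⟨z, hz1, hz3, ?_⟩
  have hcz := central σ hσ hz1
  have hczp : ∀ (k : ℤ) (y : E), y * z ^ k = z ^ k * y := fun k y => (Commute.zpow_right (hcz y) k).eq
  -- elements of Fi23 pushed through the middle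
  let D : Subgroup Spor.Fi23 :=
    { carrier := {u | ∃ v, ∃ k : ℤ, mid s n * s u = s v * mid s n * z ^ k}
      one_mem' := ⟨1, 0, by simp⟩
      mul_mem' := by
        rintro a b ⟨v, k, ha⟩ ⟨w, l, hb⟩
        refine ⟨v * w, k + l, ?_⟩
        rw [map_mul, map_mul, ← mul_assoc, ha, mul_assoc _ (z ^ k), ← hczp, ← mul_assoc, mul_assoc (s v), hb, add_comm k l,
          zpow_add]
        simp only [mul_assoc]
      inv_mem' := by
        rintro a ⟨v, k, ha⟩
        refine ⟨v⁻¹, -k, ?_⟩
        rw [map_inv, map_inv, zpow_neg, mul_inv_eq_iff_eq_mul, mul_assoc, mul_assoc, ← mul_assoc (mid s n),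
          mul_assoc, eq_inv_mul_iff_mul_eq]
        calc s v * mid s n = s v * mid s n * z ^ k * (z ^ k)⁻¹ := by group
          _ = mid s n * (s a * (z ^ k)⁻¹) := by rw [← ha, mul_assoc]
          _ = mid s n * ((z ^ k)⁻¹ * s a) := by rw [← zpow_neg, hczp] }
  have hD : ∀ w ∈ farFix ++ [farTurn], w.all (· < 10) = true ∧ FiThree.word w ∈ D := by
    intro w hw
    rcases List.mem_append.1 hw with hw | hw
    · have h := List.all_eq_true.1 far_maps w hw
      simp only [Bool.and_eq_true] at h
      obtain ⟨v, hv⟩ := mid_fix σ hσ s hs n hn hnn (u := FiThree.word w) (by rw [iota_word h.1.1]; exact act_maps h.1.2)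
        (by rw [iota_word h.1.1]; exact act_maps h.2)
      exact ⟨h.1.1, v, 0, by rw [zpow_zero, mul_one]; exact hv⟩
    · rw [List.mem_singleton.1 hw]
      exact ⟨(Bool.and_eq_true_iff.1 (Bool.and_eq_true_iff.1 turn_maps).1).1, v0, 1, by rw [zpow_one]; exact hz⟩
  -- the set stable under the generators
  let P : E → Prop := fun e => ∃ e', Near s n e' ∧ ∃ k : ℤ, e = e' * z ^ k
  have hfar : ∀ x, P (mid s n * s x * n) := by
    intro x
    have base : ∀ r, Near s n (mid s n * s r * n) →
        (∃ c ∈ D, act (iota c) (act (iota r) 5) = act (iota x) 5) → P (mid s n * s x * n) := by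
      intro r hr h
      obtain ⟨c, ⟨v, k, hc⟩, c', rfl, hc'⟩ := cosets_of_pts σ hσ s hs n hn hnn h
      obtain ⟨b, hb, -⟩ := swap_fix σ hσ s hs n hn hnn hc'
      refine ⟨s v * (mid s n * s r * n) * s b, near_mul s n hr v b, k, ?_⟩
      calc mid s n * s (c * r * c') * n = mid s n * s c * s r * (s c' * n) := by
            rw [map_mul, map_mul]; simp only [mul_assoc]
        _ = s v * mid s n * z ^ k * s r * (n * s b) := by rw [hc, hb]
        _ = s v * mid s n * (s r * (n * s b)) * z ^ k := by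
          rw [mul_assoc _ (s r), mul_assoc _ (z ^ k), ← hczp, ← mul_assoc]
        _ = _ := by simp only [mul_assoc]
    have hb := nbr_bit x
    rw [← Nat.eq_of_beq_eq_true nbrs_split] at hb
    replace hb : farComm.testBit (act (iota x) 5) = true ∨ farRest.testBit (act (iota x) 5) = true :=
      or_bit _ _ _ hb
    rcases hb with hb | hb
    · rw [← Nat.eq_of_beq_eq_true comm_orbit] at hb
      refine base 1 (Or.inr (Or.inl ⟨1, bH, ?_⟩)) (by rw [map_one, map_one]; exact orbit_elem hD hb)
      rw [map_one, one_mul, mul_one, mid]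
      simp only [mul_assoc, hnn, mul_one]
    · rw [← Nat.eq_of_beq_eq_true rest_orbit] at hb
      refine base qH ?_ (by rw [points.2.2.2.2.2]; exact orbit_elem hD hb)
      have e : n * s qH * n = s qH * n * s qH := by
        have e' : (n * s qH) ^ 3 = n * s qH * n * (s qH * n * s qH) := by
          rw [pow_succ, pow_two]; simp only [mul_assoc]
        have htri' := htri
        rw [e'] at htri'
        have hss : s qH * s qH = 1 := by rw [← map_mul, qH_inv, map_one]
        rw [eq_inv_of_mul_eq_one_left htri']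
        exact inv_eq_of_mul_eq_one_right (by
          rw [show s qH * n * s qH * (s qH * n * s qH) = s qH * n * (s qH * s qH) * n * s qH by simp only [mul_assoc],
            hss, mul_one, mul_assoc (s qH) n n, hnn, mul_one, hss])
      rw [show mid s n * s qH * n = 1 * (n * s (bH * qH) * n) * s qH from by
        rw [one_mul, map_mul]
        calc mid s n * s qH * n = n * s bH * (n * s qH * n) := by simp only [mid, mul_assoc]
          _ = _ := by rw [e]; simp only [mul_assoc], ← map_one s]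
      exact near_mul s n (near_swap σ hσ s hs n hn hnn htri _) 1 qH
  have hPS : ∀ e, P e → ∀ a b, P (s a * e * s b) := by
    rintro e ⟨e', he', k, rfl⟩ a b
    refine ⟨s a * e' * s b, near_mul s n he' a b, k, ?_⟩
    rw [← mul_assoc, mul_assoc _ (z ^ k), ← hczp]
    simp only [mul_assoc]
  have hPn : ∀ e, P e → P (e * n) := by
    rintro e ⟨e', he', k, rfl⟩
    rw [mul_assoc, ← hczp, ← mul_assoc]
    have h1 : ∀ y, P y → P (y * z ^ k) := by
      rintro y ⟨y', hy', l, rfl⟩
      exact ⟨y', hy', l + k, by rw [zpow_add, mul_assoc]⟩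
    refine h1 _ ?_
    rcases he' with ⟨u, rfl⟩ | ⟨u, v, rfl⟩ | ⟨u, v, rfl⟩
    · exact ⟨s u * n, Or.inr (Or.inl ⟨u, 1, by rw [map_one, mul_one]⟩), 0, by simp⟩
    · rw [show s u * n * s v * n = s u * (n * s v * n) * s 1 by rw [map_one, mul_one]; simp only [mul_assoc]]
      exact ⟨_, near_mul s n (near_swap σ hσ s hs n hn hnn htri v) u 1, 0, by simp⟩
    · rw [show s u * mid s n * s v * n = s u * (mid s n * s v * n) * s 1 by rw [map_one, mul_one]; simp only [mul_assoc]]
      exact hPS _ (hfar v) u 1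
  let M : Subgroup E := Subgroup.closure (Set.range s ∪ {n})
  have hPM : ∀ m ∈ M, P m ∧ ∀ e, P e → P (e * m) ∧ P (e * m⁻¹) := by
    have h1 : P 1 := ⟨1, Or.inl ⟨1, (map_one s).symm⟩, 0, by simp⟩
    suffices h : ∀ m ∈ M, ∀ e, P e → P (e * m) ∧ P (e * m⁻¹) from
      fun m hm => ⟨by simpa using (h m hm 1 h1).1, h m hm⟩
    intro m hm
    induction hm using Subgroup.closure_induction with
    | mem m hm =>
      intro e he
      rcases hm with ⟨u, rfl⟩ | hm
      · exact ⟨by simpa using hPS e he 1 u, by simpa using hPS e he 1 u⁻¹⟩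
      · rw [Set.mem_singleton_iff.1 hm, inv_eq_of_mul_eq_one_right hnn]
        exact ⟨hPn e he, hPn e he⟩
    | one => intro e he; simp [he]
    | mul a b _ _ ia ib =>
      intro e he
      exact ⟨by rw [← mul_assoc]; exact (ib _ (ia e he).1).1,
        by rw [mul_inv_rev, ← mul_assoc]; exact (ia _ (ib e he).2).2⟩
    | inv a _ ia => intro e he; rw [inv_inv]; exact ⟨(ia e he).2, (ia e he).1⟩
  have hMK : M.map σ = ⊤ := by
    rcases kK_maximal (show kK ≤ M.map σ from fun x hx => by
      obtain ⟨u, hu⟩ := Subgroup.mem_subgroupOf.1 hx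
      exact ⟨s u, Subgroup.subset_closure (Or.inl ⟨u, rfl⟩), by rw [hs]; exact Subtype.ext hu⟩) with h | h
    · exfalso
      have : qK ∈ M.map σ := ⟨n, Subgroup.subset_closure (Or.inr rfl), hn⟩
      rw [h] at this
      obtain ⟨u, hu⟩ := Subgroup.mem_subgroupOf.1 this
      exact qK_notMem (Subtype.ext hu.symm : qK = embHom u)
    · exact h
  have hgen : ∀ e, ∃ m ∈ M, ∃ c ∈ Subgroup.center E, e = m * c := by
    intro e
    obtain ⟨m, hm, em⟩ := (hMK ▸ Subgroup.mem_top (σ e) : σ e ∈ M.map σ)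
    exact ⟨m, hm, m⁻¹ * e, hσ.2.1 (MonoidHom.mem_ker.2 (by rw [map_mul, map_inv, em, inv_mul_cancel])), by group⟩
  intro y hy
  have hyM : y ∈ M := (Subgroup.commutator_le_self M) (commutator_le_of_gen hgen (hσ.2.2 hy))
  obtain ⟨e', he', k, e⟩ := (hPM y hyM).1
  have he1 : σ e' = 1 := by
    have := MonoidHom.mem_ker.1 hy
    rwa [e, map_mul, map_zpow, hz1, one_zpow, mul_one] at this
  rcases he' with ⟨u, rfl⟩ | ⟨u, v, rfl⟩ | ⟨u, v, rfl⟩
  · rw [sec_eq_one σ s hs he1, map_one, one_mul] at e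
    exact Subgroup.mem_zpowers_iff.2 ⟨k, e.symm⟩
  · exact absurd he1 (near_pos σ s hs n hn u v)
  · exact absurd he1 (far_pos σ s hs n hn u v)

end Ext

/-- The kernel of a stem extension of Fi24' is generated by an element of order dividing three. -/
theorem stem_kernel {E : Type} [Group E] [Finite E] (σ : E →* K) (hσ : IsStemExtension σ) :
    ∃ π : Multiplicative (ZMod 3) →* σ.ker, Function.Surjective π := by
  obtain ⟨s, hs⟩ := exists_section σ hσ
  obtain ⟨n, hn, hnn, htri⟩ := exists_swap σ hσ s hs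
  obtain ⟨z, hz1, hz3, hle⟩ := kernel_le σ hσ s hs n hn hnn htri
  let zk : σ.ker := ⟨z, MonoidHom.mem_ker.2 hz1⟩
  let f : { f : ℤ →+ Additive σ.ker // f (3 : ℕ) = 0 } :=
    ⟨zmultiplesHom _ (Additive.ofMul zk), by
      rw [zmultiplesHom_apply, natCast_zsmul]
      exact Additive.toMul.injective (Subtype.ext hz3)⟩
  refine ⟨AddMonoidHom.toMultiplicativeLeft (ZMod.lift 3 f), fun y => ?_⟩
  obtain ⟨k, hk⟩ := Subgroup.mem_zpowers_iff.1 (hle y.2)
  refine ⟨Multiplicative.ofAdd (k : ZMod 3), ?_⟩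
  show Additive.toMul (ZMod.lift 3 f (k : ZMod 3)) = y
  rw [ZMod.lift_coe]
  exact Subtype.ext hk

end CfsgLib.Recog.FiFour.MultBound
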