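import Cfsg.Agent.Lib.Recog.FiFour.Bound
import Cfsg.Agent.Lib.Recog.FiFour.Nets
import Cfsg.Agent.Lib.Recog.FiFour.Data
import Cfsg.Agent.Lib.Recog.FiFour.MultBound.Masks

set_option autoImplicit false
set_option maxRecDepth 20000
set_option Elab.async false

/-! Orbits for the bound on central extensions of Fi24' (owner: helper6). -/

namespace CfsgLib.Recog.FiFour.MultBound

open CfsgLib.Recog.BitPerm

/-- The second commuting involution. -/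
def swapW : List ℕ := [1, 0, 2, 1]

/-- Words of Fi23 fixing the points 0 and 5. -/
def pairWords : List (List ℕ) :=
  [[0], [2], [3], [4], [5], [6], [7], [8], [9], [0, 1, 2, 3, 4, 7, 0, 1, 2, 3, 4, 7, 0, 1, 2, 3, 4, 7, 0, 1, 2, 3, 4, 7, 0, 1, 2, 3, 4, 7]]

/-- Words of Fi23 fixing the points 0, 5 and 148. -/
def farFix : List (List ℕ) := [[1, 0, 3, 1, 0, 1], [1, 0, 4, 1, 0, 1], [1, 0, 5, 1, 0, 1], [1, 0, 6, 1, 0, 1], [1, 0, 7, 1, 0, 1], [1, 0, 8, 1, 0, 1], [1, 0, 9, 1, 0, 1]]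

/-- A word of Fi23 fixing 0 and 148 whose cube fixes 5. -/
def farTurn : List ℕ := [1, 0, 0, 1, 0, 2, 3, 4, 5, 6, 7, 3, 2, 1, 4, 3, 5, 8, 7, 3, 2, 1, 0, 4, 3, 2, 1, 5, 4, 7, 3, 2, 8, 7, 3, 4, 5, 6, 9, 6, 5, 4, 3, 7, 8, 2, 3, 7, 4, 5, 1, 2, 3, 4, 0, 1, 2, 3, 7, 8, 5, 3, 4, 1, 2, 3, 7, 6, 5, 4, 3, 2, 1, 0, 0, 1]

/-- The neighbours of the base point. -/
noncomputable def nbrs : ℕ := Nat.lor (Nat.lor nearSet outSet) (Nat.shiftLeft 1 5)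

end CfsgLib.Recog.FiFour.MultBound
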